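import Cfsg.Agent.H891.DG.WrBasic

/-!
# TEAM GEN, S4180, piece Wd: labels (helper530)

`exists_label` : for `x`, `y` in `G` there are at least `|T| ^ (2 |I| - 1)` pairs `(u, v)` such that every subgroup
containing `x · el u` and `y · el v` induces at least `Inn T` on the `i₀`-th copy of `T`.
-/

set_option autoImplicit false
set_option linter.unusedSectionVars false

namespace Cfsg.Agent.H530.DG

open Subgroup Cfsg.Agent.H891.DG Cfsg.Agent.H891.DG.WrB

universe u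

section aux

variable {G : Type u} [Group G] {M : Subgroup G} {I T : Type u} [Fintype I] [DecidableEq I]
  [Group T] (W : Wr G M I T)

/-- the inner automorphisms -/
abbrev Inn (T : Type u) [Group T] : Subgroup (MulAut T) := (MulAut.conj : T →* MulAut T).range

theorem conj_mem_inn {T : Type u} [Group T] (α : MulAut T) {β : MulAut T} (h : β ∈ Inn T) :
    α * β * α⁻¹ ∈ Inn T := by
  obtain ⟨t, rfl⟩ := h
  rw [← conj_map]
  exact ⟨_, rfl⟩

theorem conj_mem_inn' {T : Type u} [Group T] (α : MulAut T) {β : MulAut T} (h : β ∈ Inn T) :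
    α⁻¹ * β * α ∈ Inn T := by
  have := conj_mem_inn α⁻¹ h
  rwa [inv_inv] at this

/-- the length of the cycle of `i₀` -/
theorem exists_period (g : G) (i₀ : I) : ∃ k : ℕ, 0 < k ∧ W.σ (g ^ k) i₀ = i₀ ∧
    ∀ j, 0 < j → j < k → W.σ (g ^ j) i₀ ≠ i₀ := by
  have h : ∃ k, 0 < k ∧ W.σ (g ^ k) i₀ = i₀ := by
    refine ⟨orderOf (W.σ g), orderOf_pos _, ?_⟩
    rw [map_pow, pow_orderOf_eq_one]
    rfl
  refine ⟨Nat.find h, (Nat.find_spec h).1, (Nat.find_spec h).2, fun j hj hjk hc => ?_⟩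
  exact Nat.find_min h hjk ⟨hj, hc⟩

theorem σ_pow_el (g : G) (u : I → T) (j : ℕ) : W.σ ((g * el W u) ^ j) = W.σ (g ^ j) := by
  rw [map_pow, map_pow, σ_mul_mem W g (el_mem W u)]

theorem f_el_mul (g : G) (u : I → T) (i : I) : W.f (g * el W u) i = W.f g i * MulAut.conj (u i) := by
  rw [f_mul_mem W g (el_mem W u), f_el]

theorem pow_aux (g : G) (i₀ : I) (u : I → T) {k : ℕ} (hk : ∀ j, 0 < j → j < k → W.σ (g ^ j) i₀ ≠ i₀) (j : ℕ) :
    j + 1 ≤ k → ∃ P : MulAut T,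
      (∀ t : T, W.f ((g * el W (Function.update u i₀ t)) ^ (j + 1)) i₀ = P * MulAut.conj t) ∧
      (W.f (g ^ (j + 1)) i₀)⁻¹ * P ∈ Inn T := by
  induction j with
  | zero =>
    intro _
    refine ⟨W.f g i₀, fun t => ?_, ?_⟩
    · rw [zero_add, pow_one, f_el_mul, Function.update_self]
    · rw [zero_add, pow_one, inv_mul_cancel]
      exact one_mem _
  | succ j ih =>
    intro hj
    obtain ⟨P, h1, h2⟩ := ih (by omega)
    have hne := hk (j + 1) (Nat.succ_pos j) (by omega)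
    refine ⟨W.f g (W.σ (g ^ (j + 1)) i₀) * MulAut.conj (u (W.σ (g ^ (j + 1)) i₀)) * P, fun t => ?_, ?_⟩
    · rw [pow_succ', W.mul, σ_pow_el, h1 t, f_el_mul, Function.update_of_ne hne]
      simp only [mul_assoc]
    · rw [pow_succ' g (j + 1), W.mul]
      have e : (W.f g (W.σ (g ^ (j + 1)) i₀) * W.f (g ^ (j + 1)) i₀)⁻¹ *
          (W.f g (W.σ (g ^ (j + 1)) i₀) * MulAut.conj (u (W.σ (g ^ (j + 1)) i₀)) * P) =
          ((W.f (g ^ (j + 1)) i₀)⁻¹ * MulAut.conj (u (W.σ (g ^ (j + 1)) i₀)) * W.f (g ^ (j + 1)) i₀) *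
            ((W.f (g ^ (j + 1)) i₀)⁻¹ * P) := by group
      rw [e]
      exact mul_mem (conj_mem_inn' _ ⟨_, rfl⟩) h2

theorem exists_val (g : G) (i₀ : I) (u : I → T) {k : ℕ} (hk0 : 0 < k)
    (hk : ∀ j, 0 < j → j < k → W.σ (g ^ j) i₀ ≠ i₀) {a : MulAut T} (ha : (W.f (g ^ k) i₀)⁻¹ * a ∈ Inn T) :
    ∃ t : T, W.f ((g * el W (Function.update u i₀ t)) ^ k) i₀ = a := by
  obtain ⟨j, rfl⟩ := Nat.exists_eq_succ_of_ne_zero hk0.ne'
  obtain ⟨P, h1, h2⟩ := pow_aux W g i₀ u hk j le_rfl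
  have h3 : P⁻¹ * a ∈ Inn T := by
    have e : P⁻¹ * a = ((W.f (g ^ (j + 1)) i₀)⁻¹ * P)⁻¹ * ((W.f (g ^ (j + 1)) i₀)⁻¹ * a) := by group
    rw [e]
    exact mul_mem (inv_mem h2) ha
  obtain ⟨t, ht⟩ := h3
  refine ⟨t, ?_⟩
  rw [Nat.succ_eq_add_one, h1, ht, mul_inv_cancel_left]

/-- the automorphisms of the `i₀`-th copy induced by the stabiliser of `i₀` in `X` -/
def ind (X : Subgroup G) (i₀ : I) : Subgroup (MulAut T) where
  carrier := {α | ∃ z ∈ X, W.σ z i₀ = i₀ ∧ W.f z i₀ = α}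
  one_mem' := ⟨1, one_mem _, by rw [map_one]; rfl, f_one W i₀⟩
  mul_mem' := by
    rintro a b ⟨z, hz, h1, h2⟩ ⟨z', hz', h1', h2'⟩
    refine ⟨z * z', mul_mem hz hz', ?_, ?_⟩
    · rw [map_mul, Equiv.Perm.mul_apply, h1', h1]
    · rw [W.mul, h1', h2, h2']
  inv_mem' := by
    rintro a ⟨z, hz, h1, h2⟩
    refine ⟨z⁻¹, inv_mem hz, ?_, ?_⟩
    · have := σ_inv W z i₀
      rwa [h1] at this
    · have := f_inv W z i₀
      rwa [h1, h2] at this

end aux

variable {G : Type u} [Group G] [Finite G] {M : Subgroup G} [M.Normal] {I T : Type u} [Fintype I] [DecidableEq I]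
  [Group T] [Finite T] [IsSimpleGroup T] (W : Wr G M I T)

/-- **(Wd)** labels -/
theorem exists_label (hna : ¬ IsMulCommutative T) (hC : Cos2 T) (x y : G) (i₀ : I) :
    ∃ Ω : Set ((I → T) × (I → T)), Nat.card T ^ (2 * Fintype.card I - 1) ≤ Nat.card Ω ∧
      ∀ uv ∈ Ω, ∀ X : Subgroup G, x * el W uv.1 ∈ X → y * el W uv.2 ∈ X → Big W X i₀ := by
  classical
  obtain ⟨k₁, hk₁, hσ₁, hm₁⟩ := exists_period W x i₀
  obtain ⟨k₂, hk₂, hσ₂, hm₂⟩ := exists_period W y i₀
  obtain ⟨s₁, hs₁, s₂, hs₂, hgen⟩ := hC (W.f (x ^ k₁) i₀) (W.f (y ^ k₂) i₀)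
  set a₁ := W.f (x ^ k₁) i₀ * s₁ with ha₁
  set a₂ := W.f (y ^ k₂) i₀ * s₂ with ha₂
  have key : ∀ (c : T) (b a s : MulAut T), a = b * s → s ∈ Inn T →
      b⁻¹ * (MulAut.conj c * a * (MulAut.conj c)⁻¹) ∈ Inn T := by
    rintro c b a s rfl hs
    have e : b⁻¹ * (MulAut.conj c * (b * s) * (MulAut.conj c)⁻¹) =
        (b⁻¹ * MulAut.conj c * b) * s * (MulAut.conj c)⁻¹ := by group
    rw [e]
    exact mul_mem (mul_mem (conj_mem_inn' _ ⟨_, rfl⟩) hs) (inv_mem ⟨_, rfl⟩)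
  -- extension by `1`
  let ex : ({i : I // i ≠ i₀} → T) → I → T := fun u i => if h : i ≠ i₀ then u ⟨i, h⟩ else 1
  have h₁ : ∀ (c : T) (u : {i : I // i ≠ i₀} → T), ∃ t : T,
      W.f ((x * el W (Function.update (ex u) i₀ t)) ^ k₁) i₀ = MulAut.conj c * a₁ * (MulAut.conj c)⁻¹ :=
    fun c u => exists_val W x i₀ (ex u) hk₁ hm₁ (key c _ _ _ ha₁ hs₁)
  have h₂ : ∀ (c : T) (u : {i : I // i ≠ i₀} → T), ∃ t : T,
      W.f ((y * el W (Function.update (ex u) i₀ t)) ^ k₂) i₀ = MulAut.conj c * a₂ * (MulAut.conj c)⁻¹ :=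
    fun c u => exists_val W y i₀ (ex u) hk₂ hm₂ (key c _ _ _ ha₂ hs₂)
  choose t₁ ht₁ using h₁
  choose t₂ ht₂ using h₂
  let Φ : T × (({i : I // i ≠ i₀} → T) × ({i : I // i ≠ i₀} → T)) → (I → T) × (I → T) := fun p =>
    (Function.update (ex p.2.1) i₀ (t₁ p.1 p.2.1), Function.update (ex p.2.2) i₀ (t₂ p.1 p.2.2))
  have hex : ∀ (u v : {i : I // i ≠ i₀} → T) (t t' : T),
      Function.update (ex u) i₀ t = Function.update (ex v) i₀ t' → u = v := by
    intro u v t t' h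
    funext i
    have h1 := congrFun h i.1
    rw [Function.update_of_ne i.2, Function.update_of_ne i.2] at h1
    simp only [ex, dif_pos i.2] at h1
    exact h1
  have hΦ : Function.Injective Φ := by
    rintro ⟨c, u, v⟩ ⟨c', u', v'⟩ h
    have h1 := congrArg Prod.fst h
    have h2 := congrArg Prod.snd h
    have hu : u = u' := hex _ _ _ _ h1
    have hv : v = v' := hex _ _ _ _ h2
    subst hu hv
    have e1 : MulAut.conj c * a₁ * (MulAut.conj c)⁻¹ = MulAut.conj c' * a₁ * (MulAut.conj c')⁻¹ := by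
      rw [← ht₁ c u, ← ht₁ c' u]
      exact congrArg (fun w => W.f ((x * el W w) ^ k₁) i₀) h1
    have e2 : MulAut.conj c * a₂ * (MulAut.conj c)⁻¹ = MulAut.conj c' * a₂ * (MulAut.conj c')⁻¹ := by
      rw [← ht₂ c v, ← ht₂ c' v]
      exact congrArg (fun w => W.f ((y * el W w) ^ k₂) i₀) h2
    have hcent : closure ({a₁, a₂} : Set (MulAut T)) ≤
        centralizer {(MulAut.conj c')⁻¹ * MulAut.conj c} := by
      rw [closure_le]
      intro b hb
      rw [SetLike.mem_coe, mem_centralizer_singleton_iff]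
      rcases hb with rfl | hb
      · have := congrArg (fun w => (MulAut.conj c')⁻¹ * w * MulAut.conj c) e1
        simp only [mul_assoc, inv_mul_cancel_left, inv_mul_cancel, mul_one] at this
        simp only [mul_assoc]
        exact this.symm
      · rw [Set.mem_singleton_iff] at hb
        subst hb
        have := congrArg (fun w => (MulAut.conj c')⁻¹ * w * MulAut.conj c) e2
        simp only [mul_assoc, inv_mul_cancel_left, inv_mul_cancel, mul_one] at this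
        simp only [mul_assoc]
        exact this.symm
    have h3 : (MulAut.conj c')⁻¹ * MulAut.conj c = 1 := by
      apply eq_one_of_comm hna
      intro t
      have h4 := hcent (hgen ⟨t, rfl⟩)
      rw [mem_centralizer_singleton_iff] at h4
      exact h4.symm
    have h4 : c = c' := conj_injective hna (inv_mul_eq_one.1 h3).symm
    rw [h4]
  refine ⟨Set.range Φ, ?_, ?_⟩
  · have h1 : Nat.card (Set.range Φ) = Nat.card (T × (({i : I // i ≠ i₀} → T) × ({i : I // i ≠ i₀} → T))) :=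
      (Nat.card_congr (Equiv.ofInjective Φ hΦ)).symm
    have h2 : Fintype.card {i : I // i ≠ i₀} = Fintype.card I - 1 := by
      rw [Fintype.card_subtype_compl, Fintype.card_subtype_eq]
    have h3 : 0 < Fintype.card I := Fintype.card_pos_iff.2 ⟨i₀⟩
    rw [h1, Nat.card_prod, Nat.card_prod, Nat.card_fun, Nat.card_eq_fintype_card (α := {i : I // i ≠ i₀}), h2,
      ← pow_add, ← pow_succ']
    exact (congrArg (Nat.card T ^ ·) (by omega)).le
  · rintro _ ⟨⟨c, u, v⟩, rfl⟩ X hX hY t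
    have hσx : W.σ ((x * el W (Function.update (ex u) i₀ (t₁ c u))) ^ k₁) i₀ = i₀ := by
      rw [σ_pow_el]; exact hσ₁
    have hσy : W.σ ((y * el W (Function.update (ex v) i₀ (t₂ c v))) ^ k₂) i₀ = i₀ := by
      rw [σ_pow_el]; exact hσ₂
    have hD : closure ({a₁, a₂} : Set (MulAut T)) ≤
        (ind W X i₀).comap (MulAut.conj (MulAut.conj c : MulAut T)).toMonoidHom := by
      rw [closure_le]
      intro b hb
      rcases hb with rfl | hb
      · exact ⟨_, pow_mem hX k₁, hσx, ht₁ c u⟩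
      · rw [Set.mem_singleton_iff] at hb
        subst hb
        exact ⟨_, pow_mem hY k₂, hσy, ht₂ c v⟩
    have h3 := hD (hgen ⟨c⁻¹ * t * c, rfl⟩)
    obtain ⟨z, hz, h4, h5⟩ := h3
    refine ⟨z, hz, h4, h5.trans ?_⟩
    show MulAut.conj c * MulAut.conj (c⁻¹ * t * c) * (MulAut.conj c)⁻¹ = _
    rw [map_mul, map_mul, map_inv]
    group

end Cfsg.Agent.H530.DG
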